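import Mathlib.Algebra.Homology.HomologySequence
import Mathlib.CategoryTheory.Abelian.Projective.Resolution
import Mathlib.CategoryTheory.Abelian.LeftDerived
import Mathlib.CategoryTheory.Abelian.Refinements
import Mathlib.Algebra.Homology.SingleHomology
import Mathlib.Algebra.Homology.HomologicalComplexAbelian

/-!
# The horseshoe lemma for projective resolutions and the long exact sequence of left derived functors
-/

set_option autoImplicit false

universe v u v' u'

open CategoryTheory CategoryTheory.Limits HomologicalComplex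

namespace GrothLib.LDerLES

variable {C : Type u} [Category.{v} C] [Abelian C]

/-- The augmentation of a projective resolution, with target the resolved object itself. -/
noncomputable def aug {X : C} (P : ProjectiveResolution X) : P.complex.X 0 ⟶ X := P.π.f 0

instance epi_aug {X : C} (P : ProjectiveResolution X) : Epi (aug P) := inferInstanceAs (Epi (P.π.f 0))

@[reassoc (attr := simp)]
theorem d_aug {X : C} (P : ProjectiveResolution X) : P.complex.d 1 0 ≫ aug P = 0 :=
  P.complex_d_comp_π_f_zero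

theorem aug_exact {X : C} (P : ProjectiveResolution X) : (ShortComplex.mk _ _ (d_aug P)).Exact :=
  P.exact₀

/-- The twist of the differential in the middle resolution. -/
theorem exists_twist {X₁ X₂ X₃ : C} (P₁ : ProjectiveResolution X₁) (P₃ : ProjectiveResolution X₃)
    (f : X₁ ⟶ X₂) (g : X₂ ⟶ X₃) (w : f ≫ g = 0) (hS : (ShortComplex.mk f g w).ShortExact) :
    ∃ (e : P₃.complex.X 0 ⟶ X₂) (τ : ∀ n, P₃.complex.X (n + 1) ⟶ P₁.complex.X n),
      e ≫ g = aug P₃ ∧
      P₃.complex.d 1 0 ≫ e + τ 0 ≫ aug P₁ ≫ f = 0 ∧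
      ∀ n, τ (n + 1) ≫ P₁.complex.d (n + 1) n = -(P₃.complex.d (n + 2) (n + 1) ≫ τ n) := by
  have : Mono f := hS.mono_f
  have : Epi g := hS.epi_g
  let e : P₃.complex.X 0 ⟶ X₂ := Projective.factorThru (aug P₃) g
  have he : e ≫ g = aug P₃ := Projective.factorThru_comp _ _
  let w' := hS.exact.lift (P₃.complex.d 1 0 ≫ e) (by
    show (P₃.complex.d 1 0 ≫ e) ≫ g = 0
    rw [Category.assoc, he]; exact d_aug P₃)
  have hw' : w' ≫ f = P₃.complex.d 1 0 ≫ e := hS.exact.lift_f _ _
  let τ₀ : P₃.complex.X 1 ⟶ P₁.complex.X 0 := Projective.factorThru (-w') (aug P₁)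
  have hτ₀ : τ₀ ≫ aug P₁ = -w' := Projective.factorThru_comp _ _
  let St (n : ℕ) : Type v := { t : P₃.complex.X (n + 1) ⟶ P₁.complex.X n //
    ∃ t', t' ≫ P₁.complex.d (n + 1) n = -(P₃.complex.d (n + 2) (n + 1) ≫ t) }
  have h₀ : ∃ t', t' ≫ P₁.complex.d 1 0 = -(P₃.complex.d 2 1 ≫ τ₀) := by
    have hzero : (-(P₃.complex.d 2 1 ≫ τ₀)) ≫ aug P₁ = 0 := by
      refine (cancel_mono f).1 ?_
      rw [Preadditive.neg_comp, Category.assoc, hτ₀, Preadditive.comp_neg, neg_neg, Category.assoc, hw',
        HomologicalComplex.d_comp_d_assoc, zero_comp, zero_comp]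
    exact ⟨(aug_exact P₁).liftFromProjective _ hzero, (aug_exact P₁).liftFromProjective_comp _ _⟩
  have hstep : ∀ (n : ℕ) (t : P₃.complex.X (n + 1) ⟶ P₁.complex.X n) (t' : P₃.complex.X (n + 2) ⟶ P₁.complex.X (n + 1)),
      t' ≫ P₁.complex.d (n + 1) n = -(P₃.complex.d (n + 2) (n + 1) ≫ t) →
      ∃ t'', t'' ≫ P₁.complex.d (n + 2) (n + 1) = -(P₃.complex.d (n + 3) (n + 2) ≫ t') := fun n t t' h =>
    ⟨(P₁.exact_succ n).liftFromProjective _ (by
        dsimp
        rw [Preadditive.neg_comp, Category.assoc, h, Preadditive.comp_neg, neg_neg,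
          HomologicalComplex.d_comp_d_assoc, zero_comp]),
      (P₁.exact_succ n).liftFromProjective_comp _ _⟩
  let σ : ∀ n, St n := fun n => Nat.rec (motive := St) ⟨τ₀, h₀⟩
    (fun n s => ⟨s.2.choose, hstep n s.1 _ s.2.choose_spec⟩) n
  refine ⟨e, fun n => (σ n).1, he, ?_, fun n => (σ n).2.choose_spec⟩
  change _ + τ₀ ≫ aug P₁ ≫ f = 0
  rw [← Category.assoc τ₀, hτ₀, Preadditive.neg_comp, hw', add_neg_cancel]

/-- A short exact sequence of projective resolutions over a short exact sequence. -/
structure Res (S : ShortComplex C) where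
  /-- the resolution of the subobject -/
  P₁ : ProjectiveResolution S.X₁
  /-- the resolution of the middle term -/
  P₂ : ProjectiveResolution S.X₂
  /-- the resolution of the quotient -/
  P₃ : ProjectiveResolution S.X₃
  /-- the first map -/
  f : P₁.complex ⟶ P₂.complex
  /-- the second map -/
  g : P₂.complex ⟶ P₃.complex
  zero : f ≫ g = 0
  comm_f : f.f 0 ≫ P₂.π.f 0 = P₁.π.f 0 ≫ S.f
  comm_g : g.f 0 ≫ P₃.π.f 0 = P₂.π.f 0 ≫ S.g
  split : ∀ n, Nonempty (ShortComplex.mk (f.f n) (g.f n) (by rw [← HomologicalComplex.comp_f, zero, zero_f])).Splitting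

theorem exists_res {X₁ X₂ X₃ : C} (P₁ : ProjectiveResolution X₁) (P₃ : ProjectiveResolution X₃)
    (f : X₁ ⟶ X₂) (g : X₂ ⟶ X₃) (w : f ≫ g = 0) (hS : (ShortComplex.mk f g w).ShortExact) :
    Nonempty (Res (ShortComplex.mk f g w)) := by
  obtain ⟨e, τ, he, he', hτ⟩ := exists_twist P₁ P₃ f g w hS
  have : Mono f := hS.mono_f
  have : Epi g := hS.epi_g
  let P₂ : ChainComplex C ℕ := ChainComplex.of (fun n => P₁.complex.X n ⊞ P₃.complex.X n)
    (fun n => biprod.desc (biprod.lift (P₁.complex.d (n + 1) n) 0)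
      (biprod.lift (τ n) (P₃.complex.d (n + 1) n)))
    (fun n => by
      ext
      · simp
      · simp
      · simp [hτ n]
        try exact neg_add_cancel _
      · simp)
  have hd : ∀ n, P₂.d (n + 1) n = biprod.desc (biprod.lift (P₁.complex.d (n + 1) n) 0)
      (biprod.lift (τ n) (P₃.complex.d (n + 1) n)) := fun n => by simp [P₂]
  let F : P₁.complex ⟶ P₂ :=
    { f := fun n => biprod.inl
      comm' := fun i j h => by
        obtain rfl : j + 1 = i := h
        rw [hd]; ext <;> simp }
  let G : P₂ ⟶ P₃.complex :=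
    { f := fun n => biprod.snd
      comm' := fun i j h => by
        obtain rfl : j + 1 = i := h
        rw [hd]; ext <;> simp }
  have hFG : F ≫ G = 0 := by ext n; simp [F, G]
  have hsplit : ∀ n, Nonempty (ShortComplex.mk (F.f n) (G.f n) (by rw [← HomologicalComplex.comp_f, hFG, zero_f])).Splitting :=
    fun n => ⟨ShortComplex.Splitting.ofHasBinaryBiproduct (P₁.complex.X n) (P₃.complex.X n)⟩
  have hFGs : (ShortComplex.mk F G hFG).ShortExact :=
    HomologicalComplex.shortExact_of_degreewise_shortExact _ (fun n => (hsplit n).some.shortExact)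
  let π₂ : P₂ ⟶ (ChainComplex.single₀ C).obj X₂ :=
    (ChainComplex.toSingle₀Equiv _ _).symm ⟨biprod.desc (aug P₁ ≫ f) e, by
      rw [hd]
      ext
      · simp
      · simpa [add_comm] using he'⟩
  have hπ₂ : π₂.f 0 = biprod.desc (aug P₁ ≫ f) e := ChainComplex.toSingle₀Equiv_symm_apply_f_zero _ _
  have hepi : Epi (biprod.desc (aug P₁ ≫ f) e) := Preadditive.epi_of_cancel_zero _ fun a ha => by
    have h1 : f ≫ a = 0 := by
      rw [← cancel_epi (aug P₁), comp_zero]
      simpa using congrArg (biprod.inl ≫ ·) ha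
    have h2 : aug P₃ ≫ hS.exact.desc a h1 = 0 := by
      rw [← he, Category.assoc, hS.exact.g_desc]
      simpa using congrArg (biprod.inr ≫ ·) ha
    rw [← hS.exact.g_desc a h1, (cancel_epi (aug P₃)).1 (h2.trans comp_zero.symm), comp_zero]
  have hexact : (ShortComplex.mk (P₂.d 1 0) (biprod.desc (aug P₁ ≫ f) e) (by
      have := π₂.comm 1 0
      rw [HomologicalComplex.single_obj_d, comp_zero, hπ₂] at this
      exact this.symm)).Exact := by
    rw [ShortComplex.exact_iff_exact_up_to_refinements]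
    intro A x hx
    dsimp at x hx
    have hsum : (x ≫ biprod.fst) ≫ aug P₁ ≫ f + (x ≫ biprod.snd) ≫ e = 0 := by
      have hid : x = (x ≫ biprod.fst) ≫ biprod.inl + (x ≫ biprod.snd) ≫ biprod.inr := by
        rw [Category.assoc, Category.assoc, ← Preadditive.comp_add, biprod.total, Category.comp_id]
      rw [hid] at hx
      simpa [Preadditive.add_comp] using hx
    have hx₃ : (x ≫ biprod.snd) ≫ aug P₃ = 0 := by
      have := congrArg (· ≫ g) hsum
      simpa [Preadditive.add_comp, w, he] using this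
    obtain ⟨A', π, hπ, y, hy⟩ := (aug_exact P₃).exact_up_to_refinements _ hx₃
    dsimp at y hy
    have hx₁ : (π ≫ x ≫ biprod.fst - y ≫ τ 0) ≫ aug P₁ = 0 := by
      rw [← cancel_mono f, zero_comp]
      have h1 := congrArg (π ≫ ·) hsum
      simp only [Preadditive.comp_add, comp_zero, Category.assoc] at h1
      have h2 : y ≫ τ 0 ≫ aug P₁ ≫ f = -(π ≫ x ≫ biprod.snd ≫ e) := by
        rw [eq_neg_of_add_eq_zero_right he', Preadditive.comp_neg, ← reassoc_of% hy]
      simp only [Preadditive.sub_comp, Category.assoc, h2, sub_neg_eq_add]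
      exact h1
    obtain ⟨A'', π', hπ', q, hq⟩ := (aug_exact P₁).exact_up_to_refinements _ hx₁
    dsimp at q hq
    refine ⟨A'', π' ≫ π, epi_comp _ _, biprod.lift q (π' ≫ y), ?_⟩
    dsimp
    rw [show P₂.d 1 0 = _ from hd 0]
    ext
    · simp [← hq]
    · simp [reassoc_of% hy, hy]
  have hq : QuasiIso π₂ := ⟨fun n => by
    cases n with
    | zero =>
      rw [ChainComplex.quasiIsoAt₀_iff, ShortComplex.quasiIso_iff_of_zeros']
      · refine (ShortComplex.exact_and_epi_g_iff_of_iso ?_).2 ⟨hexact, hepi⟩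
        exact ShortComplex.isoMk (Iso.refl _) (Iso.refl _) (Iso.refl _)
          (by simp; exact (Category.id_comp _).trans (Category.comp_id _).symm)
          (by simp [hπ₂]; exact (Category.id_comp _).trans (Category.comp_id _).symm)
      all_goals rfl
    | succ n =>
      rw [quasiIsoAt_iff_exactAt' _ _ (ChainComplex.exactAt_succ_single_obj _ _),
        HomologicalComplex.exactAt_iff_isZero_homology]
      exact (hFGs.homology_exact₂ (n + 1)).isZero_of_both_zeros
        (((HomologicalComplex.exactAt_iff_isZero_homology _ _).1 (P₁.complex_exactAt_succ n)).eq_of_src _ _)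
        (((HomologicalComplex.exactAt_iff_isZero_homology _ _).1 (P₃.complex_exactAt_succ n)).eq_of_tgt _ _)⟩
  let R₂ : ProjectiveResolution X₂ :=
    { complex := P₂
      projective := fun n => inferInstanceAs (Projective (P₁.complex.X n ⊞ P₃.complex.X n))
      π := π₂ }
  exact ⟨{ P₁ := P₁, P₂ := R₂, P₃ := P₃, f := F, g := G, zero := hFG
           comm_f := by simp [R₂, F, hπ₂]; rfl
           comm_g := by
             show biprod.snd ≫ aug P₃ = π₂.f 0 ≫ g
             rw [hπ₂]; ext <;> simp [he, w]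
           split := hsplit }⟩

theorem nonempty_res [HasProjectiveResolutions C] {S : ShortComplex C} (hS : S.ShortExact) : Nonempty (Res S) :=
  exists_res (projectiveResolution S.X₁) (projectiveResolution S.X₃) S.f S.g S.zero hS

section LES

variable [HasProjectiveResolutions C] {D : Type u'} [Category.{v'} D] [Abelian D] (F : C ⥤ D) [F.Additive]
  {S : ShortComplex C} (T : Res S)

/-- The image of a sequence of resolutions. -/
noncomputable abbrev Res.mapped : ShortComplex (ChainComplex D ℕ) :=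
  ShortComplex.mk ((F.mapHomologicalComplex _).map T.f) ((F.mapHomologicalComplex _).map T.g)
    (by rw [← Functor.map_comp, T.zero, Functor.map_zero])

theorem Res.mapped_shortExact : (T.mapped F).ShortExact :=
  HomologicalComplex.shortExact_of_degreewise_shortExact _ fun n => ((T.split n).some.map F).shortExact

/-- The connecting map. -/
noncomputable def Res.delta (i j : ℕ) (h : j + 1 = i) :
    (F.leftDerived i).obj S.X₃ ⟶ (F.leftDerived j).obj S.X₁ :=
  (T.P₃.isoLeftDerivedObj F i).hom ≫ (T.mapped_shortExact F).δ i j h ≫ (T.P₁.isoLeftDerivedObj F j).inv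

theorem sqf (n : ℕ) : (F.leftDerived n).map S.f ≫ (T.P₂.isoLeftDerivedObj F n).hom =
    (T.P₁.isoLeftDerivedObj F n).hom ≫ homologyMap ((F.mapHomologicalComplex _).map T.f) n :=
  ProjectiveResolution.isoLeftDerivedObj_hom_naturality S.f T.P₁ T.P₂ T.f T.comm_f F n

theorem sqg (n : ℕ) : (F.leftDerived n).map S.g ≫ (T.P₃.isoLeftDerivedObj F n).hom =
    (T.P₂.isoLeftDerivedObj F n).hom ≫ homologyMap ((F.mapHomologicalComplex _).map T.g) n :=
  ProjectiveResolution.isoLeftDerivedObj_hom_naturality S.g T.P₂ T.P₃ T.g T.comm_g F n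

theorem delta_sq (i j : ℕ) (h : j + 1 = i) :
    T.delta F i j h ≫ (T.P₁.isoLeftDerivedObj F j).hom =
      (T.P₃.isoLeftDerivedObj F i).hom ≫ (T.mapped_shortExact F).δ i j h := by
  refine (Category.assoc _ _ _).trans (congrArg (_ ≫ ·) ((Category.assoc _ _ _).trans ?_))
  exact (congrArg ((T.mapped_shortExact F).δ i j h ≫ ·) (Iso.inv_hom_id _)).trans (Category.comp_id _)

theorem comp_delta (i j : ℕ) (h : j + 1 = i) : (F.leftDerived i).map S.g ≫ T.delta F i j h = 0 := by
  rw [← cancel_mono (T.P₁.isoLeftDerivedObj F j).hom, Category.assoc, zero_comp, delta_sq]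
  exact ((Category.assoc _ _ _).symm.trans ((congrArg (· ≫ _) (sqg F T i)).trans (Category.assoc _ _ _))).trans
    ((congrArg ((T.P₂.isoLeftDerivedObj F i).hom ≫ ·) ((T.mapped_shortExact F).comp_δ i j h)).trans comp_zero)

theorem delta_comp (i j : ℕ) (h : j + 1 = i) : T.delta F i j h ≫ (F.leftDerived j).map S.f = 0 := by
  rw [← cancel_mono (T.P₂.isoLeftDerivedObj F j).hom, Category.assoc, zero_comp, sqf F T j]
  exact (Category.assoc _ _ _).symm.trans <| ((congrArg (· ≫ _) (delta_sq F T i j h)).trans (Category.assoc _ _ _)).trans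
    ((congrArg ((T.P₃.isoLeftDerivedObj F i).hom ≫ ·) ((T.mapped_shortExact F).δ_comp i j h)).trans comp_zero)

include T in
theorem map_comp_map (n : ℕ) : (F.leftDerived n).map S.f ≫ (F.leftDerived n).map S.g = 0 := by
  rw [← cancel_mono (T.P₃.isoLeftDerivedObj F n).hom, zero_comp]
  refine (Category.assoc _ _ _).trans ((congrArg (_ ≫ ·) (sqg F T n)).trans
    ((Category.assoc _ _ _).symm.trans ((congrArg (· ≫ _) (sqf F T n)).trans ((Category.assoc _ _ _).trans ?_))))
  refine (congrArg ((T.P₁.isoLeftDerivedObj F n).hom ≫ ·) ?_).trans comp_zero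
  exact (homologyMap_comp _ _ _).symm.trans
    ((congrArg (homologyMap · n) (T.mapped F).zero).trans (homologyMap_zero _ _ _))

include T in
theorem exact₂ (n : ℕ) (w : (F.leftDerived n).map S.f ≫ (F.leftDerived n).map S.g = 0) :
    (ShortComplex.mk ((F.leftDerived n).map S.f) ((F.leftDerived n).map S.g) w).Exact :=
  (ShortComplex.exact_iff_of_iso (ShortComplex.isoMk (T.P₁.isoLeftDerivedObj F n)
    (T.P₂.isoLeftDerivedObj F n) (T.P₃.isoLeftDerivedObj F n) (sqf F T n).symm (sqg F T n).symm)).2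
    ((T.mapped_shortExact F).homology_exact₂ n)

theorem exact₃ (i j : ℕ) (h : j + 1 = i) : (ShortComplex.mk _ _ (comp_delta F T i j h)).Exact :=
  (ShortComplex.exact_iff_of_iso (ShortComplex.isoMk (T.P₂.isoLeftDerivedObj F i)
    (T.P₃.isoLeftDerivedObj F i) (T.P₁.isoLeftDerivedObj F j) (sqg F T i).symm
    (delta_sq F T i j h).symm)).2
    ((T.mapped_shortExact F).homology_exact₃ i j h)

theorem exact₁ (i j : ℕ) (h : j + 1 = i) : (ShortComplex.mk _ _ (delta_comp F T i j h)).Exact :=
  (ShortComplex.exact_iff_of_iso (ShortComplex.isoMk (T.P₃.isoLeftDerivedObj F i)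
    (T.P₁.isoLeftDerivedObj F j) (T.P₂.isoLeftDerivedObj F j)
    (delta_sq F T i j h).symm (sqf F T j).symm)).2
    ((T.mapped_shortExact F).homology_exact₁ i j h)

include T in
theorem epi_zero : Epi ((F.leftDerived 0).map S.g) := by
  have : Epi ((T.mapped F).g.f 0) := ((T.split 0).some.map F).shortExact.epi_g
  have h : Epi (homologyMap (T.mapped F).g 0) :=
    HomologicalComplex.epi_homologyMap_of_epi_of_not_rel _ _ (fun j hj => by simp at hj)
  have e : (F.leftDerived 0).map S.g =
      (T.P₂.isoLeftDerivedObj F 0).hom ≫ homologyMap (T.mapped F).g 0 ≫ (T.P₃.isoLeftDerivedObj F 0).inv := by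
    exact ((Iso.eq_comp_inv _).2 (sqg F T 0)).trans (Category.assoc _ _ _)
  rw [e]
  exact epi_comp' (SplitEpi.epi ⟨_, Iso.inv_hom_id _⟩) (epi_comp' h (SplitEpi.epi ⟨_, Iso.hom_inv_id _⟩))

end LES

end GrothLib.LDerLES
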